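import Cfsg.Agent.H491.RIM.SL
import Cfsg.Agent.H491.RIM.Eng
import Cfsg.Agent.H622.Levi.Cusp

/-!
# Cuspidal characters of the type `A` Levi subgroups over a character of the centre (S4816, helper491)

`M_K` is the subgroup generated by the root groups of the roots of the chain `K = range k`, `k : Fin m ↪ I`, `m ≥ 2`.

* `exists_chain` : a cuspidal irreducible character of `M_K` of degree `∏_{i<m} (q^(i+1) - 1)` over an arbitrary linear
  character of the centre of `M_K`, not fixed by the elements of `Y` which reverse the chain;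
* `exists_prod_over` : products with the cuspidal characters of an orthogonal component over a central subgroup of `Y`;
* `exists_irr_chain`, `exists_irr_prod` : the irreducible characters of `Y` obtained by Harish-Chandra induction.
-/

set_option autoImplicit false
set_option linter.unusedSectionVars false

namespace Cfsg.Agent.H491.RIM

open Matrix
open Cfsg.Agent.TitsThree.KSideA (tv tv_of_ne tv_add tv_zero tv_neg tv_comm)
open scoped commutatorElement

section ring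

variable {F : Type*} [Field F] [Finite F]

theorem exists_third {n : ℕ} (hn : 3 ≤ n) (a b : Fin n) : ∃ c : Fin n, c ≠ a ∧ c ≠ b := by
  classical
  by_contra hcon
  push Not at hcon
  have h1 : (Finset.univ : Finset (Fin n)) ⊆ {a, b} := by
    intro c _
    rw [Finset.mem_insert, Finset.mem_singleton]
    by_cases h : c = a
    · exact Or.inl h
    · exact Or.inr (hcon c h)
  have h2 := (Finset.card_le_card h1).trans Finset.card_le_two
  rw [Finset.card_univ, Fintype.card_fin] at h2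
  omega

theorem exists_ringEquiv {n : ℕ} (hn : 3 ≤ n) {f : Fin n → Fin n → F → F}
    (hadd : ∀ a b, a ≠ b → ∀ s t, f a b (s + t) = f a b s + f a b t)
    (hmul : ∀ a b c, a ≠ b → b ≠ c → a ≠ c → ∀ s t, f a c (s * t) = f a b s * f b c t)
    (hne : ∀ a b, a ≠ b → f a b 1 ≠ 0) :
    ∃ (τ : F ≃+* F) (d : Fin n → F), (∀ a, d a ≠ 0) ∧ ∀ a b, a ≠ b → ∀ t, f a b t = d a * τ t * (d b)⁻¹ := by
  classical
  let o : Fin n := ⟨0, by omega⟩
  let o1 : Fin n := ⟨1, by omega⟩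
  have ho : o ≠ o1 := by
    intro e
    have h1 := congrArg Fin.val e
    change (0 : ℕ) = 1 at h1
    omega
  -- the normalized maps
  let g : Fin n → Fin n → F → F := fun a b t => f a b t * (f a b 1)⁻¹
  have hg1 : ∀ a b, a ≠ b → g a b 1 = 1 := fun a b hab => mul_inv_cancel₀ (hne a b hab)
  have hc : ∀ a b c, a ≠ b → b ≠ c → a ≠ c → f a c 1 = f a b 1 * f b c 1 := by
    intro a b c hab hbc hac
    have := hmul a b c hab hbc hac 1 1
    rwa [mul_one] at this
  have hgm : ∀ a b c, a ≠ b → b ≠ c → a ≠ c → ∀ s t, g a c (s * t) = g a b s * g b c t := by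
    intro a b c hab hbc hac s t
    change f a c (s * t) * (f a c 1)⁻¹ = f a b s * (f a b 1)⁻¹ * (f b c t * (f b c 1)⁻¹)
    rw [hmul a b c hab hbc hac, hc a b c hab hbc hac, mul_inv]
    ring
  have hr : ∀ a b c, a ≠ b → b ≠ c → a ≠ c → ∀ s, g a c s = g a b s := by
    intro a b c hab hbc hac s
    have := hgm a b c hab hbc hac s 1
    rwa [mul_one, hg1 b c hbc, mul_one] at this
  have hl : ∀ a b c, a ≠ b → b ≠ c → a ≠ c → ∀ s, g a c s = g b c s := by
    intro a b c hab hbc hac s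
    have := hgm a b c hab hbc hac 1 s
    rwa [one_mul, hg1 a b hab, one_mul] at this
  have hone : ∀ a, a ≠ o1 → ∀ s, g a o1 s = g o o1 s := by
    intro a ha s
    by_cases hao : a = o
    · rw [hao]
    · exact hl a o o1 hao ho ha s
  have hall1 : ∀ a b, a ≠ b → a ≠ o1 → ∀ s, g a b s = g o o1 s := by
    intro a b hab ha s
    by_cases hb : b = o1
    · rw [hb]; exact hone a ha s
    · rw [← hone a ha s]
      exact (hr a b o1 hab hb ha s).symm
  have hall : ∀ a b, a ≠ b → ∀ s, g a b s = g o o1 s := by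
    intro a b hab s
    by_cases ha : a = o1
    · subst ha
      obtain ⟨e, he1, he2⟩ := exists_third hn o1 b
      rw [← hall1 e b he2 he1 s]
      exact (hl e o1 b he1 hab he2 s).symm
    · exact hall1 a b hab ha s
  obtain ⟨o2, ho20, ho21⟩ := exists_third hn o o1
  let τ₀ : F →+* F :=
    { toFun := g o o1
      map_one' := hg1 o o1 ho
      map_zero' := by
        have h1 := hadd o o1 ho 0 0
        rw [add_zero] at h1
        have h2 : f o o1 0 = 0 := by
          have : f o o1 0 + 0 = f o o1 0 + f o o1 0 := by rw [add_zero]; exact h1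
          exact (add_left_cancel this).symm
        change f o o1 0 * _ = 0
        rw [h2, zero_mul]
      map_add' := fun s t => by
        change f o o1 (s + t) * _ = f o o1 s * _ + f o o1 t * _
        rw [hadd o o1 ho, add_mul]
      map_mul' := fun s t => by
        rw [hgm o o2 o1 ho20.symm ho21 ho s t, hall o o2 ho20.symm, hall o2 o1 ho21] }
  have hbij : Function.Bijective τ₀ := Finite.injective_iff_bijective.1 τ₀.injective
  let τ : F ≃+* F := RingEquiv.ofBijective τ₀ hbij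
  have hτ : ∀ s, τ s = g o o1 s := fun s => rfl
  let d : Fin n → F := fun a => if a = o then 1 else f a o 1
  have hd : ∀ a, d a ≠ 0 := by
    intro a
    change (if a = o then (1 : F) else f a o 1) ≠ 0
    split_ifs with h
    · exact one_ne_zero
    · exact hne a o h
  have hdc : ∀ a b, a ≠ b → f a b 1 = d a * (d b)⁻¹ := by
    intro a b hab
    by_cases ha : a = o
    · subst ha
      have hb : b ≠ o := hab.symm
      have e1 : d o = 1 := if_pos rfl
      have e2 : d b = f b o 1 := if_neg hb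
      obtain ⟨e, he1, he2⟩ := exists_third hn o b
      have h1 := hc e o b he1 hab he2
      have h2 := hc e b o he2 hb he1
      have h3 : f e o 1 * (f o b 1 * f b o 1) = f e o 1 * 1 := by
        rw [← mul_assoc, ← h1, ← h2, mul_one]
      have h4 := mul_left_cancel₀ (hne e o he1) h3
      rw [e1, e2, one_mul]
      exact eq_inv_of_mul_eq_one_left h4
    · have e1 : d a = f a o 1 := if_neg ha
      by_cases hb : b = o
      · subst hb
        have e2 : d o = 1 := if_pos rfl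
        rw [e1, e2, inv_one, mul_one]
      · have e2 : d b = f b o 1 := if_neg hb
        rw [e1, e2, hc a b o hab hb ha, mul_assoc, mul_inv_cancel₀ (hne b o hb), mul_one]
  refine ⟨τ, d, hd, fun a b hab t => ?_⟩
  have h1 : f a b t = f a b 1 * g a b t := by
    change f a b t = f a b 1 * (f a b t * (f a b 1)⁻¹)
    rw [mul_comm (f a b 1), mul_assoc, inv_mul_cancel₀ (hne a b hab), mul_one]
  rw [h1, hall a b hab, hτ, hdc a b hab]
  ring

end ring

section mat

variable {F : Type*} [Field F] {n : ℕ}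

/-- the monomial matrix of the swap -/
def swapC (d : Fin n → F) (hd : ∀ a, d a ≠ 0) : GL (Fin n) F where
  val := Matrix.of fun i j => if i = Fin.rev j then (d j)⁻¹ else 0
  inv := Matrix.of fun i j => if j = Fin.rev i then d i else 0
  val_inv := by
    ext i k
    rw [Matrix.mul_apply, Finset.sum_eq_single (Fin.rev i)]
    · rw [Matrix.of_apply, Matrix.of_apply, if_pos (Fin.rev_rev i).symm, Fin.rev_rev, Matrix.one_apply]
      by_cases h : i = k
      · rw [if_pos h.symm, if_pos h, inv_mul_cancel₀ (hd _)]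
      · rw [if_neg (fun e => h e.symm), if_neg h, mul_zero]
    · intro j _ hj
      rw [Matrix.of_apply, if_neg, zero_mul]
      intro e
      exact hj (by rw [e, Fin.rev_rev])
    · intro h; exact absurd (Finset.mem_univ _) h
  inv_val := by
    ext i k
    rw [Matrix.mul_apply, Finset.sum_eq_single (Fin.rev i)]
    · rw [Matrix.of_apply, Matrix.of_apply, if_pos rfl, Matrix.one_apply]
      by_cases h : i = k
      · rw [if_pos (by rw [h]), if_pos h, h, mul_inv_cancel₀ (hd _)]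
      · rw [if_neg (fun e => h (Fin.rev_injective e)), if_neg h, mul_zero]
    · intro j _ hj
      rw [Matrix.of_apply, if_neg hj, zero_mul]
    · intro h; exact absurd (Finset.mem_univ _) h

theorem swapC_mul_single (d : Fin n → F) (hd : ∀ a, d a ≠ 0) (a b : Fin n) (x : F) :
    (swapC d hd : Matrix (Fin n) (Fin n) F) * Matrix.single b a x =
      Matrix.single (Fin.rev b) (Fin.rev a) (d a * x * (d b)⁻¹) * (swapC d hd : Matrix (Fin n) (Fin n) F) := by
  ext i j
  by_cases hj : j = a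
  · subst hj
    rw [Matrix.mul_single_apply_same]
    by_cases hi : i = Fin.rev b
    · subst hi
      rw [Matrix.single_mul_apply_same]
      change (if Fin.rev b = Fin.rev b then (d b)⁻¹ else 0) * x = _ * (if Fin.rev j = Fin.rev j then (d j)⁻¹ else 0)
      rw [if_pos rfl, if_pos rfl]
      have := hd j
      field_simp
    · rw [Matrix.single_mul_apply_of_ne _ _ _ _ _ hi]
      change (if i = Fin.rev b then (d b)⁻¹ else 0) * x = 0
      rw [if_neg hi, zero_mul]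
  · rw [Matrix.mul_single_apply_of_ne _ _ _ _ _ hj]
    by_cases hi : i = Fin.rev b
    · subst hi
      rw [Matrix.single_mul_apply_same]
      change 0 = _ * (if Fin.rev a = Fin.rev j then (d j)⁻¹ else 0)
      rw [if_neg (fun e => hj (Fin.rev_injective e).symm), mul_zero]
    · rw [Matrix.single_mul_apply_of_ne _ _ _ _ _ hi]

theorem swapHom_tv (d : Fin n → F) (hd : ∀ a, d a ≠ 0) (τ : F ≃+* F) {a b : Fin n} (hab : a ≠ b) (s : F) :
    H622.Levi.swapHom (swapC d hd) τ (tv a b s) = tv (Fin.rev b) (Fin.rev a) (-(d a * τ s * (d b)⁻¹)) := by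
  have hab' : Fin.rev b ≠ Fin.rev a := fun h => hab (Fin.rev_injective h).symm
  apply Subtype.ext
  rw [H622.Levi.coe_swapHom, ← tv_neg, tv_of_ne hab, tv_of_ne hab']
  change (swapC d hd : Matrix (Fin n) (Fin n) F) * ((1 + Matrix.single a b (-s)).map τ).transpose *
    (((swapC d hd)⁻¹ : GL (Fin n) F) : Matrix (Fin n) (Fin n) F) = 1 + Matrix.single (Fin.rev b) (Fin.rev a) _
  have h1 : (((1 : Matrix (Fin n) (Fin n) F) + Matrix.single a b (-s)).map τ).transpose =
      1 + Matrix.single b a (-τ s) := by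
    ext i j
    simp only [Matrix.transpose_apply, Matrix.map_apply, Matrix.add_apply, map_add, Matrix.one_apply,
      Matrix.single_apply, apply_ite τ, map_one, map_zero, map_neg]
    congr 1
    · simp only [eq_comm]
    · simp only [and_comm]
  rw [h1, mul_add, mul_one, swapC_mul_single, add_mul, Matrix.mul_assoc, ← Units.val_mul, mul_inv_cancel,
    Units.val_one, mul_one]
  congr 2
  ring

variable {Y : Type*} [Group Y] {φ : SpecialLinearGroup (Fin n) F →* Y}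

theorem hom_ext_tv (hn : 2 ≤ n) {α β : SpecialLinearGroup (Fin n) F →* Y}
    (h : ∀ a b : Fin n, a ≠ b → ∀ s : F, α (tv a b s) = β (tv a b s)) : α = β := by
  have : Nontrivial (Fin n) := Fin.nontrivial_iff_two_le.2 hn
  ext x
  refine Cfsg.Agent.LieClassical.SLGen.transvection_induction (fun x => α x = β x) ?_ ?_ x
  · intro a b hab s
    have := h a b hab s
    rwa [tv_of_ne hab] at this
  · intro x y hx hy
    rw [map_mul, map_mul, hx, hy]

/-- **Elements which reverse the root groups.** -/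
theorem exists_swap [Finite F] (hn : 3 ≤ n) (hinj : ∀ a b : Fin n, a ≠ b → Function.Injective fun t : F => φ (tv a b t))
    {g : Y}
    (hg : ∀ a b : Fin n, a ≠ b → ∀ s : F, ∃ t : F, g * φ (tv a b s) * g⁻¹ = φ (tv (Fin.rev b) (Fin.rev a) t)) :
    ∃ (τ : F ≃+* F) (C : GL (Fin n) F), ∀ x, g * φ x * g⁻¹ = φ (H622.Levi.swapHom C τ x) := by
  choose! f hf using hg
  have hrev : ∀ {a b : Fin n}, a ≠ b → Fin.rev b ≠ Fin.rev a := fun hab h => hab (Fin.rev_injective h).symm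
  obtain ⟨τ, d, hd, hτ⟩ := exists_ringEquiv hn (f := fun a b s => -f a b s) (by
      intro a b hab s t
      have h1 := hf a b hab (s + t)
      rw [tv_add, map_mul] at h1
      have h2 : g * (φ (tv a b s) * φ (tv a b t)) * g⁻¹ = (g * φ (tv a b s) * g⁻¹) * (g * φ (tv a b t) * g⁻¹) := by
        group
      rw [h2, hf a b hab, hf a b hab, ← map_mul, ← tv_add] at h1
      change -f a b (s + t) = -f a b s + -f a b t
      rw [← hinj _ _ (hrev hab) h1]
      ring) (by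
      intro a b c hab hbc hac s t
      have h1 := hf a c hac (s * t)
      rw [← tv_comm hab hbc hac, map_commutatorElement, conjugate_commutatorElement] at h1
      rw [hf a b hab, hf b c hbc, ← map_commutatorElement, ← commutatorElement_inv,
        tv_comm (hrev hbc) (hrev hab) (hrev hac), ← tv_neg] at h1
      change -f a c (s * t) = -f a b s * -f b c t
      rw [← hinj _ _ (hrev hac) h1]
      ring) (by
      intro a b hab h0
      have h1 := hf a b hab 1
      rw [neg_eq_zero.1 h0, tv_zero, map_one, mul_inv_eq_one, mul_eq_left, ← map_one φ, ← tv_zero a b] at h1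
      exact one_ne_zero (hinj a b hab h1))
  refine ⟨τ, swapC d hd, fun x => ?_⟩
  have h1 : (MulAut.conj g).toMonoidHom.comp φ = φ.comp (H622.Levi.swapHom (swapC d hd) τ) := by
    refine hom_ext_tv (by omega) fun a b hab s => ?_
    rw [MonoidHom.comp_apply, MonoidHom.comp_apply, swapHom_tv d hd τ hab]
    change g * φ (tv a b s) * g⁻¹ = _
    rw [hf a b hab, ← hτ a b hab s, neg_neg]
  exact DFunLike.congr_fun h1 x

/-- injectivity on root groups -/
theorem tv_injective (hn : 3 ≤ n) (hker : φ.ker ≤ Subgroup.center (SpecialLinearGroup (Fin n) F)) {a b : Fin n}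
    (hab : a ≠ b) : Function.Injective fun t : F => φ (tv a b t) := by
  obtain ⟨c, hac, hbc⟩ := exists_third hn a b
  intro s t hst
  have h2 : (tv a b s)⁻¹ * tv a b t ∈ φ.ker := by
    rw [MonoidHom.mem_ker, map_mul, map_inv]
    exact inv_mul_eq_one.2 hst
  have h3 := hker h2
  rw [← tv_neg, ← tv_add] at h3
  have h4 : ⁅tv a b (-s + t), tv b c (1 : F)⁆ = 1 := by
    rw [commutatorElement_eq_one_iff_mul_comm]
    exact (Subgroup.mem_center_iff.1 h3 _).symm
  rw [tv_comm hab hbc.symm hac.symm, mul_one, tv_of_ne hac.symm] at h4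
  have h5 := congrFun (congrFun (congrArg Subtype.val h4) a) c
  change (1 + Matrix.single a c (-s + t) : Matrix (Fin n) (Fin n) F) a c = (1 : Matrix (Fin n) (Fin n) F) a c at h5
  rw [Matrix.add_apply, Matrix.single_apply_same] at h5
  have h6 := add_eq_left.1 h5
  rw [neg_add_eq_zero] at h6
  exact h6

end mat

section chain

open Cfsg Cfsg.Agent.Characters CoxeterSystem Cfsg.Agent.ChevalleyStructure.CoxeterGeom Cfsg.Agent.Tits.Roots
  Cfsg.Agent.Tits.Core Cfsg.Agent.Tits.Exchange Cfsg.Agent.Nodes.Reps Cfsg.Agent.Nodes.BNOf Cfsg.Agent.Nodes.StabComb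
  Cfsg.Agent.Nodes.SubComb Cfsg.Agent.Nodes.RootsA
open Cfsg.Agent.LieRecognition.BNCox (cA)
open Cfsg.Agent.H622.Levi (Co cr UU UU_inf_center mem_center_of_ker)
open Cfsg.Agent.H53.HC (MJ rad Perm rad_le_MJ conj_mem_MJ conjME conjME_coe rp_mem_normalizer_MJ)

variable {I W Y : Type*} [Fintype I] [DecidableEq I] [Group W] [Group Y] {M : CoxeterMatrix I}
  {cs : CoxeterSystem M W} {A : I → I → ℤ} {h : IsCartan M A} {p : ℕ} {T : Subgroup Y} {n : I → Y}
  {X : (I → ℤ) → Subgroup Y} {m : ℕ} {k : Fin m ↪ I}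

/-- the action on the roots of the chain of an element reversing the simple roots -/
theorem rep_cr {w : W} (hw : ∀ i, rep cs h w (sr (k i)) = sr (k i.rev)) (a b : Fin (m + 1)) :
    rep cs h w (cr k a b) = cr k b.rev a.rev := by
  unfold cr
  rw [iota_apply, iota_apply, map_sum]
  simp only [map_smul, hw]
  refine Finset.sum_equiv Fin.revPerm (fun _ => by simp) fun j _ => ?_
  rw [Fin.revPerm_apply]
  congr 1
  rw [rtA_apply, rtA_apply]
  simp only [Fin.val_rev]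
  have h1 := a.2
  have h2 := b.2
  have h3 := j.2
  split_ifs <;> omega

variable {F : Type} [Field F] [Finite F] {φ : SpecialLinearGroup (Fin (m + 1)) F →* Y}

/-- **Descent of characters over a character of the centre.** -/
theorem exists_descend_mu [Finite W] [Finite Y] (C : Co X k F φ) (hk : ∀ i j, M (k i) (k j) = cA m i j) (hm : 1 ≤ m)
    (μ : Subgroup.center ↥(MJ cs h X (Set.range k)) →* ℂˣ) (μ' : Subgroup.center (SpecialLinearGroup (Fin (m + 1)) F) →* ℂˣ)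
    (hμ : ∀ (z) (hz : z ∈ Subgroup.center (SpecialLinearGroup (Fin (m + 1)) F)) (z')
      (hz' : z' ∈ Subgroup.center ↥(MJ cs h X (Set.range k))), (z' : Y) = φ z → μ' ⟨z, hz⟩ = μ ⟨z', hz'⟩)
    {η : SpecialLinearGroup (Fin (m + 1)) F → ℂ} (hη : IsIrrCharacter _ η)
    (hz : ∀ (z) (hz : z ∈ Subgroup.center (SpecialLinearGroup (Fin (m + 1)) F)) (x), η (z * x) = (μ' ⟨z, hz⟩ : ℂˣ) * η x)
    (hs : ∀ i : Fin m, ∀ [Fintype (UU F i)], ∑ g : UU F i, η g = 0) :
    ∃ θ : ↥(MJ cs h X (Set.range k)) → ℂ, IsIrrCharacter _ θ ∧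
      (∀ (z) (hz : z ∈ Subgroup.center ↥(MJ cs h X (Set.range k))) (x), θ (z * x) = (μ ⟨z, hz⟩ : ℂˣ) * θ x) ∧
      (∀ i ∈ Set.range k, ∀ [Fintype (rad cs h X (Set.range k) i)],
        ∑ u : rad cs h X (Set.range k) i, θ ⟨u, rad_le_MJ (Set.range k) i u.2⟩ = 0) ∧
      ∀ (g : SpecialLinearGroup (Fin (m + 1)) F) (x : ↥(MJ cs h X (Set.range k))), (x : Y) = φ g → θ x = η g := by
  have hran : φ.range = MJ cs h X (Set.range k) := C.range hk hm
  let f : SpecialLinearGroup (Fin (m + 1)) F →* ↥(MJ cs h X (Set.range k)) :=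
    φ.codRestrict _ fun g => hran ▸ ⟨g, rfl⟩
  have hf : Function.Surjective f := by
    rintro ⟨y, hy⟩
    rw [← hran] at hy
    obtain ⟨g, rfl⟩ := hy
    exact ⟨g, rfl⟩
  have hfv : ∀ g, (f g : Y) = φ g := fun g => rfl
  have hcen : ∀ g, f g ∈ Subgroup.center ↥(MJ cs h X (Set.range k)) →
      g ∈ Subgroup.center (SpecialLinearGroup (Fin (m + 1)) F) := by
    intro g hg
    refine mem_center_of_ker hm C.ker fun s => ?_
    rw [Subgroup.mem_center_iff] at hg
    exact (congrArg Subtype.val (hg (f s))).symm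
  have hcen' : ∀ g ∈ Subgroup.center (SpecialLinearGroup (Fin (m + 1)) F),
      f g ∈ Subgroup.center ↥(MJ cs h X (Set.range k)) := by
    intro g hg
    rw [Subgroup.mem_center_iff] at hg ⊢
    intro x
    obtain ⟨y, rfl⟩ := hf x
    rw [← map_mul, hg, map_mul]
  obtain ⟨θ, hθ, hv⟩ := OddOrderCharacters.PF9.Reducible.exists_of_surjective f hf hη (by
    intro g hg
    have h1 : g ∈ Subgroup.center (SpecialLinearGroup (Fin (m + 1)) F) := C.ker (by
      rw [MonoidHom.mem_ker, ← hfv, hg]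
      rfl)
    have h2 := hz g h1 1
    have h3 := hμ g h1 1 (one_mem _) (by rw [← hfv, hg])
    have h4 : μ' ⟨g, h1⟩ = 1 := h3.trans (map_one μ)
    rwa [mul_one, h4, Units.val_one, one_mul] at h2)
  refine ⟨θ, hθ, ?_, ?_, ?_⟩
  · intro z hz' x
    obtain ⟨g, rfl⟩ := hf z
    obtain ⟨x, rfl⟩ := hf x
    rw [← map_mul, hv, hv, hz g (hcen g hz'), hμ g (hcen g hz') (f g) hz' rfl]
  · rintro _ ⟨i, rfl⟩ _
    classical
    have hfin : Fintype (UU F i) := Fintype.ofFinite _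
    rw [← hs i]
    symm
    have hmem : ∀ g : UU F i, φ g ∈ rad cs h X (Set.range k) (k i) := by
      intro g
      have h2 : φ g ∈ (UU F i).map φ := ⟨g, g.2, rfl⟩
      rw [C.map_UU (cs := cs) (h := h) hk i] at h2
      exact h2
    refine Fintype.sum_bijective (fun g : UU F i => (⟨φ g, hmem g⟩ : rad cs h X (Set.range k) (k i)))
      ⟨?_, ?_⟩ _ _ ?_
    · intro g g' hgg
      have h2 : φ g = φ g' := congrArg Subtype.val hgg
      have h3 : (g : SpecialLinearGroup (Fin (m + 1)) F)⁻¹ * g' ∈ φ.ker := by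
        rw [MonoidHom.mem_ker, map_mul, map_inv, h2, inv_mul_cancel]
      have h4 := UU_inf_center (mul_mem (inv_mem g.2) g'.2) (C.ker h3)
      exact Subtype.ext (inv_mul_eq_one.1 h4)
    · rintro ⟨y, hy⟩
      have h2 : y ∈ (UU F i).map φ := by
        rw [C.map_UU (cs := cs) (h := h) hk i]
        exact hy
      obtain ⟨g, hg, rfl⟩ := h2
      exact ⟨⟨g, hg⟩, rfl⟩
    · intro g
      rw [← hv]
      rfl
  · intro g x hx
    rw [← hv]
    congr 1
    exact Subtype.ext (hx.trans (hfv g).symm)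

/-- conjugation of root groups -/
theorem conj_of (C : Co X k F φ) {g : Y} {a b a' b' : Fin (m + 1)} (hab : a ≠ b) (hab' : a' ≠ b')
    (hg : cj g (X (cr k a b)) = X (cr k a' b')) (s : F) : ∃ t : F, g * φ (tv a b s) * g⁻¹ = φ (tv a' b' t) := by
  have h1 : φ (tv a b s) ∈ X (cr k a b) := by
    have h0 : φ (tv a b s) ∈ (X (cr k a b) : Set Y) := by
      rw [C.root a b hab, tv_of_ne hab]
      exact ⟨s, rfl⟩
    exact h0
  have h2 : g * φ (tv a b s) * g⁻¹ ∈ (X (cr k a' b') : Set Y) := by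
    change _ ∈ X (cr k a' b')
    rw [← hg, mem_cj]
    have : g⁻¹ * (g * φ (tv a b s) * g⁻¹) * g = φ (tv a b s) := by group
    rwa [this]
  rw [C.root a' b' hab'] at h2
  obtain ⟨t, ht⟩ := h2
  exact ⟨t, by rw [tv_of_ne hab']; exact ht.symm⟩

/-- **Cuspidal characters of the type `A` Levi subgroups over a character of the centre, not invariant under the elements
reversing the chain.** -/
theorem exists_chain [Finite W] [Finite Y] (R : RGD cs h p T n X) {m : ℕ} (hm : 2 ≤ m) (k : Fin m ↪ I)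
    (hk : ∀ i j, M (k i) (k j) = cA m i j) {q : ℕ} (i₀ : Fin m) (hq : Nat.card (X (sr (k i₀))) = q)
    (μ : Subgroup.center ↥(MJ cs h X (Set.range k)) →* ℂˣ) :
    ∃ θ : ↥(MJ cs h X (Set.range k)) → ℂ, IsIrrCharacter _ θ ∧
      (∀ (z) (hz : z ∈ Subgroup.center ↥(MJ cs h X (Set.range k))) (x), θ (z * x) = (μ ⟨z, hz⟩ : ℂˣ) * θ x) ∧
      (∀ i ∈ Set.range k, ∀ [Fintype (rad cs h X (Set.range k) i)],
        ∑ u : rad cs h X (Set.range k) i, θ ⟨u, rad_le_MJ (Set.range k) i u.2⟩ = 0) ∧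
      θ 1 = ((∏ i ∈ Finset.range m, (q ^ (i + 1) - 1) : ℕ) : ℂ) ∧
      ∀ (w : W) (g : Y) (hg : Rp cs R.nsys w g) (hp : Perm cs h (Set.range k) w),
        (∀ i, rep cs h w (sr (k i)) = sr (k i.rev)) →
        ∃ (x : Y) (hx : x ∈ MJ cs h X (Set.range k)), θ ⟨g⁻¹ * x * g, conj_mem_MJ R hg hp hx⟩ ≠ θ ⟨x, hx⟩ := by
  obtain ⟨F, _, _, φ, C⟩ := H622.Levi.exists_co R hm k hk
  have hran : φ.range = MJ cs h X (Set.range k) := C.range hk (by omega)
  let f : SpecialLinearGroup (Fin (m + 1)) F →* ↥(MJ cs h X (Set.range k)) :=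
    φ.codRestrict _ fun g => hran ▸ ⟨g, rfl⟩
  have hf : Function.Surjective f := by
    rintro ⟨y, hy⟩
    rw [← hran] at hy
    obtain ⟨g, rfl⟩ := hy
    exact ⟨g, rfl⟩
  have hfv : ∀ g, (f g : Y) = φ g := fun g => rfl
  have hcen' : ∀ g ∈ Subgroup.center (SpecialLinearGroup (Fin (m + 1)) F),
      f g ∈ Subgroup.center ↥(MJ cs h X (Set.range k)) := by
    intro g hg
    rw [Subgroup.mem_center_iff] at hg ⊢
    intro x
    obtain ⟨y, rfl⟩ := hf x
    rw [← map_mul, hg, map_mul]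
  let μ' : Subgroup.center (SpecialLinearGroup (Fin (m + 1)) F) →* ℂˣ := μ.comp
    ((f.comp (Subgroup.center _).subtype).codRestrict _ fun z => hcen' z z.2)
  obtain ⟨η, h1, h2, h3, h4, h5⟩ := exists_sl hm μ'
  obtain ⟨θ, hθ, hθz, hθv, hθφ⟩ := exists_descend_mu (cs := cs) (h := h) C hk (by omega) μ μ' (by
    intro z hz z' hz' e
    change μ ⟨f z, _⟩ = _
    congr 1
    exact Subtype.ext (Subtype.ext e.symm)) h1 h2 h3
  refine ⟨θ, hθ, hθz, hθv, ?_, ?_⟩
  · rw [hθφ 1 1 (map_one φ).symm, h4, ← hq, C.card i₀]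
  · intro w g hg hp hw
    by_contra hcon
    push Not at hcon
    -- `g⁻¹` reverses the chain
    have hw' : ∀ i, rep cs h w⁻¹ (sr (k i)) = sr (k i.rev) := by
      intro i
      have := hw i.rev
      rw [Fin.rev_rev] at this
      rw [← this, rep_inv_apply]
    obtain ⟨τ, D, hD⟩ := exists_swap (n := m + 1) (by omega) (fun a b hab => tv_injective (by omega) C.ker hab)
      (g := g⁻¹) (fun a b hab s => by
        have hab' : Fin.rev b ≠ Fin.rev a := fun e => hab (Fin.rev_injective e).symm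
        refine conj_of C hab hab' ?_ s
        have hroot : IsRoot cs h (cr k a b) :=
          ((H622.Levi.mem_rootsJ (cs := cs) (h := h) hk).2 ⟨a, b, hab, rfl⟩).1
        rw [R.conj_rp hg.inv hroot, rep_cr hw'])
    apply h5 D τ
    funext x
    have h6 := hcon (φ x) (hran ▸ ⟨x, rfl⟩)
    rw [Function.comp_apply, ← hθφ x ⟨φ x, hran ▸ ⟨x, rfl⟩⟩ rfl, ← h6]
    refine (hθφ _ _ ?_).symm
    have := hD x
    rw [inv_inv] at this
    exact this

end chain

section prod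

open Cfsg Cfsg.Agent.Characters CoxeterSystem Cfsg.Agent.ChevalleyStructure.CoxeterGeom Cfsg.Agent.Tits.Roots
  Cfsg.Agent.Tits.Core Cfsg.Agent.Tits.Exchange Cfsg.Agent.Nodes.Reps Cfsg.Agent.Nodes.BNOf Cfsg.Agent.Nodes.StabComb
open Cfsg.Agent.H53.HC (MJ rad Perm Orth rad_le_MJ conj_mem_MJ conjME conjME_coe rp_mem_normalizer_MJ)

/-- extension of linear characters -/
theorem exists_extend {A : Type*} [Group A] [Finite A] (hA : ∀ a b : A, a * b = b * a) (B : Subgroup A) (f : B →* ℂˣ) :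
    ∃ g : A →* ℂˣ, ∀ b : B, g b = f b := by
  let _ : CommGroup A := { ‹Group A› with mul_comm := hA }
  have : NeZero ((Monoid.exponent A : ℕ) : ℂ) := ⟨by
    exact_mod_cast Monoid.exponent_ne_zero_of_finite⟩
  obtain ⟨g, hg⟩ := MonoidHom.domRestrict_surjective ℂ B f
  exact ⟨g, fun b => DFunLike.congr_fun hg b⟩

/-- the central character -/
theorem exists_central {G : Type*} [Group G] [Finite G] {χ : G → ℂ} (hχ : IsIrrCharacter G χ) :
    ∃ ω : Subgroup.center G →* ℂˣ, ∀ (z) (hz : z ∈ Subgroup.center G) (x), χ (z * x) = (ω ⟨z, hz⟩ : ℂˣ) * χ x := by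
  have h1 : χ 1 ≠ 0 := Core.isIrr_apply_one_ne_zero hχ
  have hm : ∀ z ∈ Subgroup.center G, ∀ x, χ (z * x) = (χ z / χ 1) * χ x := fun z hz x =>
    central_mul hχ hz (by rw [mul_div_cancel₀ _ h1]) x
  let ω' : Subgroup.center G →* ℂ :=
    { toFun := fun z => χ z / χ 1
      map_one' := div_self h1
      map_mul' := fun z w => by
        change χ (z * w) / χ 1 = _
        rw [hm z z.2 w, mul_div_assoc] }
  exact ⟨ω'.toHomUnits, fun z hz x => hm z hz x⟩

variable {I W Y : Type*} [Fintype I] [DecidableEq I] [Group W] [Group Y] {M : CoxeterMatrix I}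
  {cs : CoxeterSystem M W} {A : I → I → ℤ} {h : IsCartan M A} {p : ℕ} {T : Subgroup Y} {n : I → Y}
  {X : (I → ℤ) → Subgroup Y}

/-- a cuspidal irreducible character of `M_K` over the linear character `l` of the central subgroup `Z` -/
structure CuspOver (cs : CoxeterSystem M W) (h : IsCartan M A) (X : (I → ℤ) → Subgroup Y) (K : Set I) (Z : Subgroup Y)
    (l : Z →* ℂˣ) (θ : ↥(MJ cs h X K) → ℂ) : Prop where
  irr : IsIrrCharacter _ θ
  cen : ∀ (z : Y) (h1 : z ∈ MJ cs h X K) (h2 : z ∈ Z), θ ⟨z, h1⟩ = θ 1 * (l ⟨z, h2⟩ : ℂˣ)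
  van : ∀ i ∈ K, ∀ [Fintype (rad cs h X K i)], ∑ u : rad cs h X K i, θ ⟨u, rad_le_MJ K i u.2⟩ = 0

theorem mem_center_MJ {K : Set I} {Z : Subgroup Y} (hZ : Z ≤ Subgroup.center Y) {z : Y} (h1 : z ∈ MJ cs h X K)
    (h2 : z ∈ Z) : (⟨z, h1⟩ : ↥(MJ cs h X K)) ∈ Subgroup.center ↥(MJ cs h X K) := by
  rw [Subgroup.mem_center_iff]
  exact fun g => Subtype.ext (Subgroup.mem_center_iff.1 (hZ h2) g)

/-- a character of the centre of `M_K` which agrees with `l` on `Z` -/
theorem exists_mu [Finite Y] (K : Set I) {Z : Subgroup Y} (hZ : Z ≤ Subgroup.center Y) (l : Z →* ℂˣ) :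
    ∃ μ : Subgroup.center ↥(MJ cs h X K) →* ℂˣ, ∀ (z : Y) (h1 : z ∈ MJ cs h X K) (h2 : z ∈ Z),
      μ ⟨⟨z, h1⟩, mem_center_MJ hZ h1 h2⟩ = l ⟨z, h2⟩ := by
  let B : Subgroup (Subgroup.center ↥(MJ cs h X K)) :=
    Z.comap ((MJ cs h X K).subtype.comp (Subgroup.center ↥(MJ cs h X K)).subtype)
  let f : B →* ℂˣ := l.comp (((MJ cs h X K).subtype.comp (Subgroup.center ↥(MJ cs h X K)).subtype).subgroupComap Z)
  obtain ⟨μ, hμ⟩ := exists_extend (fun a b => Subtype.ext (Subgroup.mem_center_iff.1 b.2 a)) B f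
  exact ⟨μ, fun z h1 h2 => hμ ⟨⟨⟨z, h1⟩, mem_center_MJ hZ h1 h2⟩, h2⟩⟩

theorem over_of_mu [Finite Y] {K : Set I} {Z : Subgroup Y} (hZ : Z ≤ Subgroup.center Y) {l : Z →* ℂˣ}
    {μ : Subgroup.center ↥(MJ cs h X K) →* ℂˣ} (hμ : ∀ (z : Y) (h1 : z ∈ MJ cs h X K) (h2 : z ∈ Z),
      μ ⟨⟨z, h1⟩, mem_center_MJ hZ h1 h2⟩ = l ⟨z, h2⟩) {θ : ↥(MJ cs h X K) → ℂ}
    (hθ : ∀ (z) (hz : z ∈ Subgroup.center ↥(MJ cs h X K)) (x), θ (z * x) = (μ ⟨z, hz⟩ : ℂˣ) * θ x) (z : Y)
    (h1 : z ∈ MJ cs h X K) (h2 : z ∈ Z) : θ ⟨z, h1⟩ = θ 1 * (l ⟨z, h2⟩ : ℂˣ) := by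
  rw [← hμ z h1 h2, mul_comm, ← hθ, mul_one]

variable (R : RGD cs h p T n X)

include R

/-- **The product of cuspidal characters over a character of a central subgroup.** -/
theorem exists_prod_over [Finite W] [Finite Y] {K K' : Set I} (ho : Orth A K K') {Z : Subgroup Y}
    (hZ : Z ≤ Subgroup.center Y) (l : Z →* ℂˣ) {θ' : ↥(MJ cs h X K') → ℂ} (hθ' : CuspOver cs h X K' Z l θ') :
    ∃ μ : Subgroup.center ↥(MJ cs h X K) →* ℂˣ,
      (∀ (z : Y) (h1 : z ∈ MJ cs h X K) (h2 : z ∈ Z), μ ⟨⟨z, h1⟩, mem_center_MJ hZ h1 h2⟩ = l ⟨z, h2⟩) ∧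
      ∀ θ : ↥(MJ cs h X K) → ℂ, IsIrrCharacter _ θ →
      (∀ (z) (hz : z ∈ Subgroup.center ↥(MJ cs h X K)) (x), θ (z * x) = (μ ⟨z, hz⟩ : ℂˣ) * θ x) →
      (∀ i ∈ K, ∀ [Fintype (rad cs h X K i)], ∑ u : rad cs h X K i, θ ⟨u, rad_le_MJ K i u.2⟩ = 0) →
      ∃ ψ : ↥(MJ cs h X (K ∪ K')) → ℂ, CuspOver cs h X (K ∪ K') Z l ψ ∧
        ∀ (a : Y) (ha : a ∈ MJ cs h X K) (b : Y) (hb : b ∈ MJ cs h X K'),
          ∃ hab : a * b ∈ MJ cs h X (K ∪ K'), ψ ⟨a * b, hab⟩ = θ ⟨a, ha⟩ * θ' ⟨b, hb⟩ := by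
  classical
  have hcomm := ho.comm R
  have hcZ : ∀ z ∈ Z, ∀ y : Y, y * z = z * y := fun z hz y => Subgroup.mem_center_iff.1 (hZ hz) y
  have hθ'1 : θ' 1 ≠ 0 := Core.isIrr_apply_one_ne_zero hθ'.irr
  -- the character `l` of `Z`
  obtain ⟨H, hH, θ₂, hθ₂, hθ₂v⟩ : ∃ (H : Subgroup Y) (_ : H = MJ cs h X K' ⊔ Z) (θ₂ : H → ℂ), IsIrrCharacter H θ₂ ∧
      ∀ a (ha : a ∈ MJ cs h X K') b (hb : b ∈ Z) (hab : a * b ∈ H), θ₂ ⟨a * b, hab⟩ = θ' ⟨a, ha⟩ * ((l ⟨b, hb⟩ : ℂˣ) : ℂ) := by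
    obtain ⟨θ₂, h1, h2⟩ := exists_prod_cen (H := MJ cs h X K') (K := Z) (fun a _ b hb => hcZ b hb a) hθ'.irr
      (β := fun z => ((l z : ℂˣ) : ℂ)) (Linear.isIrrCharacter_hom l) (by
        intro z h1 h2
        rw [hθ'.cen z h1 h2, map_one, Units.val_one, mul_one, mul_assoc, ← Units.val_mul, ← map_mul]
        have : (⟨z, h2⟩ : Z) * ⟨z⁻¹, inv_mem h2⟩ = 1 := Subtype.ext (mul_inv_cancel z)
        rw [this, map_one, Units.val_one, mul_one])
    exact ⟨_, rfl, θ₂, h1, fun a ha b hb _ => h2 a ha b hb⟩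
  have hHK : ∀ b ∈ MJ cs h X K', b ∈ H := fun b hb => by rw [hH]; exact le_sup_left (b := Z) hb
  have hHZ : ∀ b ∈ Z, b ∈ H := fun b hb => by rw [hH]; exact le_sup_right (a := MJ cs h X K') hb
  obtain ⟨ω, hω⟩ := exists_central hθ₂
  have hcH : ∀ a ∈ MJ cs h X K, ∀ b ∈ H, b * a = a * b := by
    intro a ha
    have h1 : H ≤ Subgroup.centralizer ({a} : Set Y) := by
      rw [hH]
      refine sup_le (fun b hb => ?_) (fun b hb => ?_)
      · rw [Subgroup.mem_centralizer_singleton_iff]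
        exact (hcomm a ha b hb).symm
      · rw [Subgroup.mem_centralizer_singleton_iff]
        exact (hcZ b hb a).symm
    intro b hb
    exact Subgroup.mem_centralizer_singleton_iff.1 (h1 hb)
  -- the subgroup of the centre
  let ι : Subgroup.center ↥(MJ cs h X K) →* Y := (MJ cs h X K).subtype.comp (Subgroup.center ↥(MJ cs h X K)).subtype
  let B : Subgroup (Subgroup.center ↥(MJ cs h X K)) := H.comap ι
  have hBc : ∀ b : B, (⟨ι b, b.2⟩ : H) ∈ Subgroup.center H := by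
    intro b
    rw [Subgroup.mem_center_iff]
    intro g
    exact Subtype.ext (hcH _ b.1.1.2 g g.2)
  let f : B →* ℂˣ := ω.comp ((ι.subgroupComap H).codRestrict (Subgroup.center H) hBc)
  obtain ⟨μ, hμ⟩ := exists_extend (fun a b => Subtype.ext (Subgroup.mem_center_iff.1 b.2 a)) B f
  have hω1 : ∀ (a : Y) (ha : a ∈ MJ cs h X K) (hc : (⟨a, ha⟩ : ↥(MJ cs h X K)) ∈ Subgroup.center ↥(MJ cs h X K))
      (haH : a ∈ H), θ₂ ⟨a, haH⟩ = ((μ ⟨⟨a, ha⟩, hc⟩ : ℂˣ) : ℂ) * θ₂ 1 := by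
    intro a ha hc haH
    have h1 : μ ⟨⟨a, ha⟩, hc⟩ = f ⟨⟨⟨a, ha⟩, hc⟩, haH⟩ := hμ ⟨⟨⟨a, ha⟩, hc⟩, haH⟩
    have h2 := hω _ (hBc ⟨⟨⟨a, ha⟩, hc⟩, haH⟩) 1
    rw [mul_one] at h2
    rw [h1]
    exact h2
  have hθ₂K : ∀ b (hb : b ∈ MJ cs h X K'), θ₂ ⟨b, hHK b hb⟩ = θ' ⟨b, hb⟩ := by
    intro b hb
    have h1 := hθ₂v b hb 1 (one_mem _) (by rw [mul_one]; exact hHK b hb)
    have h2 : l ⟨1, one_mem _⟩ = 1 := map_one l
    rw [h2, Units.val_one] at h1
    simp only [mul_one] at h1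
    exact h1
  have hθ₂1 : θ₂ 1 = θ' 1 := hθ₂K 1 (one_mem _)
  have hθ₂Z : ∀ z (hz : z ∈ Z), θ₂ ⟨z, hHZ z hz⟩ = θ' 1 * ((l ⟨z, hz⟩ : ℂˣ) : ℂ) := by
    intro z hz
    have h1 := hθ₂v 1 (one_mem _) z hz (by rw [one_mul]; exact hHZ z hz)
    simp only [one_mul] at h1
    exact h1
  refine ⟨μ, ?_, ?_⟩
  · intro z h1 h2
    have h3 := hω1 z h1 (mem_center_MJ hZ h1 h2) (hHZ z h2)
    rw [hθ₂Z z h2, hθ₂1, mul_comm] at h3
    exact Units.ext (mul_right_cancel₀ hθ'1 h3).symm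
  intro θ hθ hθμ hθv
  obtain ⟨ψ, hψ, hval⟩ := exists_prod_cen hcomm hθ hθ'.irr (by
    intro z h1 h2
    have hc1 : (⟨z, h1⟩ : ↥(MJ cs h X K)) ∈ Subgroup.center ↥(MJ cs h X K) := by
      rw [Subgroup.mem_center_iff]
      intro g
      exact Subtype.ext (hcomm g g.2 z h2)
    have h3 := hω1 z⁻¹ (inv_mem h1) (inv_mem hc1) (hHK _ (inv_mem h2))
    rw [hθ₂K _ (inv_mem h2), hθ₂1] at h3
    have h4 := hθμ _ hc1 1
    rw [mul_one] at h4
    have h5 : (μ ⟨⟨z⁻¹, inv_mem h1⟩, inv_mem hc1⟩) = (μ ⟨⟨z, h1⟩, hc1⟩)⁻¹ := by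
      rw [← map_inv]
      rfl
    rw [h4, h3, h5, Units.val_inv_eq_inv_val]
    have h6 : ((μ ⟨⟨z, h1⟩, hc1⟩ : ℂˣ) : ℂ) ≠ 0 := Units.ne_zero _
    field_simp)
  have hMJ := ho.MJ_union (cs := cs) (h := h) (X := X)
  let e := MulEquiv.subgroupCongr hMJ
  have hle1 : MJ cs h X K ≤ MJ cs h X (K ∪ K') := by rw [hMJ]; exact le_sup_left
  have hle2 : MJ cs h X K' ≤ MJ cs h X (K ∪ K') := by rw [hMJ]; exact le_sup_right
  have hval' : ∀ (a : Y) (ha : a ∈ MJ cs h X K) (b : Y) (hb : b ∈ MJ cs h X K')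
      (hab : a * b ∈ MJ cs h X (K ∪ K')), (ψ ∘ e) ⟨a * b, hab⟩ = θ ⟨a, ha⟩ * θ' ⟨b, hb⟩ :=
    fun a ha b hb _ => hval a ha b hb
  have hψ1 : (ψ ∘ e) 1 = θ 1 * θ' 1 := by
    have h1 := hval' 1 (one_mem _) 1 (one_mem _) (by rw [mul_one]; exact one_mem _)
    simp only [mul_one] at h1
    exact h1
  refine ⟨ψ ∘ e, ⟨Core.isIrr_comp e.toMonoidHom e.surjective hψ, ?_, ?_⟩,
    fun a ha b hb => ⟨mul_mem (hle1 ha) (hle2 hb), hval' a ha b hb _⟩⟩
  · intro z hz hzZ
    have hdec : ∃ a ∈ MJ cs h X K, ∃ b ∈ MJ cs h X K', z = a * b := by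
      rw [hMJ] at hz
      have hle : MJ cs h X K ≤ Subgroup.normalizer (MJ cs h X K' : Set Y) := by
        intro a ha
        rw [Subgroup.mem_normalizer_iff]
        intro b
        constructor
        · intro hb
          rw [hcomm a ha b hb, mul_inv_cancel_right]
          exact hb
        · intro hb
          have h1 := hcomm a⁻¹ (inv_mem ha) _ hb
          have h3 : b * a⁻¹ = (a * b * a⁻¹) * a⁻¹ := by rw [← h1]; group
          have h4 : b = a * b * a⁻¹ := mul_right_cancel h3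
          rw [h4]
          exact hb
      have h1 : z ∈ ((MJ cs h X K ⊔ MJ cs h X K' : Subgroup Y) : Set Y) := hz
      rw [Subgroup.coe_mul_of_left_le_normalizer_right _ _ hle] at h1
      obtain ⟨a, ha, b, hb, rfl⟩ := h1
      exact ⟨a, ha, b, hb, rfl⟩
    obtain ⟨a, ha, b, hb, hzab⟩ := hdec
    have haz : a = z * b⁻¹ := by rw [hzab, mul_inv_cancel_right]
    have haH : a ∈ H := by
      rw [haz]
      exact mul_mem (hHZ z hzZ) (hHK _ (inv_mem hb))
    have hac : (⟨a, ha⟩ : ↥(MJ cs h X K)) ∈ Subgroup.center ↥(MJ cs h X K) := by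
      rw [Subgroup.mem_center_iff]
      exact fun g => Subtype.ext (hcH g g.2 a haH).symm
    have haH' : (⟨a, haH⟩ : H) ∈ Subgroup.center H := by
      rw [Subgroup.mem_center_iff]
      exact fun g => Subtype.ext (hcH a ha g g.2)
    have hμa : ((ω ⟨⟨a, haH⟩, haH'⟩ : ℂˣ) : ℂ) = ((μ ⟨⟨a, ha⟩, hac⟩ : ℂˣ) : ℂ) := by
      have h1 := hω _ haH' 1
      rw [mul_one, hω1 a ha hac haH] at h1
      exact (mul_right_cancel₀ (by rw [hθ₂1]; exact hθ'1) h1).symm
    have h1 := hω _ haH' ⟨b, hHK b hb⟩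
    rw [hθ₂K b hb, hμa] at h1
    have h2 : (⟨a, haH⟩ * ⟨b, hHK b hb⟩ : H) = ⟨z, hHZ z hzZ⟩ :=
      Subtype.ext hzab.symm
    rw [h2, hθ₂Z z hzZ] at h1
    have h3 := hval' a ha b hb (by rw [← hzab]; exact hz)
    have h4 : (⟨z, hz⟩ : ↥(MJ cs h X (K ∪ K'))) = ⟨a * b, by rw [← hzab]; exact hz⟩ := Subtype.ext hzab
    have h5 := hθμ _ hac 1
    rw [mul_one] at h5
    rw [h4, h3, hψ1, h5, mul_right_comm, ← h1]
    ring
  · intro i hi hf
    rcases hi with hi | hi
    · have hr : rad cs h X (K ∪ K') i = rad cs h X K i := ho.rad_eq hi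
      have : Fintype (rad cs h X K i) := Fintype.ofFinite _
      have h1 : ∀ u : rad cs h X (K ∪ K') i, (ψ ∘ e) ⟨u, rad_le_MJ (K ∪ K') i u.2⟩ =
          θ ⟨u, rad_le_MJ K i (by rw [← hr]; exact u.2)⟩ * θ' 1 := by
        rintro ⟨u, hu⟩
        have h2 := hval' u (rad_le_MJ K i (by rw [← hr]; exact hu)) 1 (one_mem _)
          (by rw [mul_one]; exact rad_le_MJ (K ∪ K') i hu)
        simp only [mul_one] at h2
        exact h2
      rw [Finset.sum_congr rfl fun u _ => h1 u, ← Finset.sum_mul]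
      have h3 : ∑ u : rad cs h X (K ∪ K') i, θ ⟨u, rad_le_MJ K i (by rw [← hr]; exact u.2)⟩ =
          ∑ u : rad cs h X K i, θ ⟨u, rad_le_MJ K i u.2⟩ :=
        Fintype.sum_equiv (MulEquiv.subgroupCongr hr).toEquiv _ _ fun u => rfl
      rw [h3, hθv i hi, zero_mul]
    · have hr : rad cs h X (K ∪ K') i = rad cs h X K' i := by
        rw [Set.union_comm]
        exact ho.symm.rad_eq hi
      have : Fintype (rad cs h X K' i) := Fintype.ofFinite _
      have h1 : ∀ u : rad cs h X (K ∪ K') i, (ψ ∘ e) ⟨u, rad_le_MJ (K ∪ K') i u.2⟩ =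
          θ 1 * θ' ⟨u, rad_le_MJ K' i (by rw [← hr]; exact u.2)⟩ := by
        rintro ⟨u, hu⟩
        have h2 := hval' 1 (one_mem _) u (rad_le_MJ K' i (by rw [← hr]; exact hu))
          (by rw [one_mul]; exact rad_le_MJ (K ∪ K') i hu)
        simp only [one_mul] at h2
        exact h2
      rw [Finset.sum_congr rfl fun u _ => h1 u, ← Finset.mul_sum]
      have h3 : ∑ u : rad cs h X (K ∪ K') i, θ' ⟨u, rad_le_MJ K' i (by rw [← hr]; exact u.2)⟩ =
          ∑ u : rad cs h X K' i, θ' ⟨u, rad_le_MJ K' i u.2⟩ :=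
        Fintype.sum_equiv (MulEquiv.subgroupCongr hr).toEquiv _ _ fun u => rfl
      rw [h3, hθ'.van i hi, mul_zero]

end prod

section final

open Cfsg Cfsg.Agent.Characters CoxeterSystem Cfsg.Agent.ChevalleyStructure.CoxeterGeom Cfsg.Agent.Tits.Roots
  Cfsg.Agent.Tits.Core Cfsg.Agent.Tits.Exchange Cfsg.Agent.Nodes.Reps Cfsg.Agent.Nodes.BNOf Cfsg.Agent.Nodes.StabComb
  Cfsg.Agent.Nodes.Bruhat Cfsg.Agent.Nodes.OppDec Cfsg.Agent.Nodes.LeviDec
open Cfsg.Agent.LieRecognition.BNCox (cA)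
open Cfsg.Agent.H53.HC (MJ rad Perm Orth rad_le_MJ conj_mem_MJ conjME conjME_coe rp_mem_normalizer_MJ)

variable {I W Y : Type*} [Fintype I] [DecidableEq I] [Group W] [Group Y] {M : CoxeterMatrix I}
  {cs : CoxeterSystem M W} {A : I → I → ℤ} {h : IsCartan M A} {p : ℕ} {T : Subgroup Y} {n : I → Y}
  {X : (I → ℤ) → Subgroup Y} (R : RGD cs h p T n X)

include R

/-- the chain characters over a central subgroup of `Y` -/
theorem exists_chain_over [Finite W] [Finite Y] {m : ℕ} (hm : 2 ≤ m) (k : Fin m ↪ I)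
    (hk : ∀ i j, M (k i) (k j) = cA m i j) {q : ℕ} (i₀ : Fin m) (hq : Nat.card (X (sr (k i₀))) = q)
    {Z : Subgroup Y} (hZ : Z ≤ Subgroup.center Y) (l : Z →* ℂˣ) :
    ∃ θ : ↥(MJ cs h X (Set.range k)) → ℂ, CuspOver cs h X (Set.range k) Z l θ ∧
      θ 1 = ((∏ i ∈ Finset.range m, (q ^ (i + 1) - 1) : ℕ) : ℂ) ∧
      ∀ (w : W) (g : Y) (hg : Rp cs R.nsys w g) (hp : Perm cs h (Set.range k) w),
        (∀ i, rep cs h w (sr (k i)) = sr (k i.rev)) →
        ∃ (x : Y) (hx : x ∈ MJ cs h X (Set.range k)), θ ⟨g⁻¹ * x * g, conj_mem_MJ R hg hp hx⟩ ≠ θ ⟨x, hx⟩ := by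
  obtain ⟨μ, hμ⟩ := exists_mu (cs := cs) (h := h) (X := X) (Set.range k) hZ l
  obtain ⟨θ, h1, h2, h3, h4, h5⟩ := exists_chain R hm k hk i₀ hq μ
  exact ⟨θ, ⟨h1, over_of_mu hZ hμ h2, h3⟩, h4, h5⟩

omit R in
theorem perm_of_rev {m : ℕ} {k : Fin m ↪ I} {w : W} (hw : ∀ i, rep cs h w (sr (k i)) = sr (k i.rev)) :
    Perm cs h (Set.range k) w := by
  have hw' : ∀ i, rep cs h w⁻¹ (sr (k i)) = sr (k i.rev) := by
    intro i
    have := hw i.rev
    rw [Fin.rev_rev] at this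
    rw [← this, rep_inv_apply]
  constructor
  · rintro _ ⟨i, rfl⟩
    exact ⟨k i.rev, ⟨_, rfl⟩, hw' i⟩
  · rintro _ ⟨i, rfl⟩
    exact ⟨k i.rev, ⟨_, rfl⟩, hw i⟩

/-- **Irreducible characters over a character of a central subgroup from a chain `K` and a cuspidal character of the
complement `K'` of `K` in `J`**, when all `w ∉ W_J` permuting the simple roots of `J` reverse the chain. -/
theorem exists_irr_prod [Finite W] [Fintype Y] (hG : GG cs h T X = ⊤) {m : ℕ} (hm : 2 ≤ m) (k : Fin m ↪ I)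
    (hk : ∀ i j, M (k i) (k j) = cA m i j) {q : ℕ} (i₀ : Fin m) (hq : Nat.card (X (sr (k i₀))) = q)
    {K' : Set I} (ho : Orth A (Set.range k) K') {Z : Subgroup Y} (hZc : Z ≤ Subgroup.center Y) (hZT : Z ≤ T) (l : Z →* ℂˣ)
    {θ' : ↥(MJ cs h X K') → ℂ} (hθ' : CuspOver cs h X K' Z l θ')
    (hw : ∀ w, w ∉ WJ cs (Set.range k ∪ K') → Perm cs h (Set.range k ∪ K') w →
      ∀ i, rep cs h w (sr (k i)) = sr (k i.rev)) :
    ∃ χ : Y → ℂ, IsIrrCharacter Y χ ∧ (∃ c : ℕ, 0 < c ∧ χ 1 = (PJ cs h T X (Set.range k ∪ K')).index *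
        (c * (((∏ i ∈ Finset.range m, (q ^ (i + 1) - 1) : ℕ) : ℂ) * θ' 1))) ∧
      ∀ z (hz : z ∈ Z), χ z = χ 1 * (l ⟨z, hz⟩ : ℂˣ) := by
  obtain ⟨μ, -, hprod⟩ := exists_prod_over R ho hZc l hθ'
  obtain ⟨θ, h1, h2, h3, h4, h5⟩ := exists_chain R hm k hk i₀ hq μ
  obtain ⟨ψ, hψ, hval⟩ := hprod θ h1 h2 h3
  have hle : MJ cs h X (Set.range k) ≤ MJ cs h X (Set.range k ∪ K') := by
    rw [ho.MJ_union]
    exact le_sup_left
  have hv : ∀ (a : Y) (ha : a ∈ MJ cs h X (Set.range k)), ψ ⟨a, hle ha⟩ = θ ⟨a, ha⟩ * θ' 1 := by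
    intro a ha
    obtain ⟨hab, e⟩ := hval a ha 1 (one_mem _)
    simp only [mul_one] at e
    exact e
  have hψ1 : ψ 1 = θ 1 * θ' 1 := hv 1 (one_mem _)
  rw [← h4, ← hψ1]
  refine exists_irr_MJ R hG _ hZc hZT l hψ.irr hψ.cen hψ.van ?_
  intro w g hg hwJ hp
  have hrev := hw w hwJ hp
  obtain ⟨x, hx, hne⟩ := h5 w g hg (perm_of_rev hrev) hrev
  refine ⟨x, hle hx, fun e => hne ?_⟩
  rw [hv x hx] at e
  have e2 := hv (g⁻¹ * x * g) (conj_mem_MJ R hg (perm_of_rev hrev) hx)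
  rw [e2] at e
  exact mul_right_cancel₀ (Core.isIrr_apply_one_ne_zero hθ'.irr) e

/-- **Irreducible characters over a character of a central subgroup from a chain**, when all `w ∉ W_J` permuting the simple
roots of `J` reverse the chain. -/
theorem exists_irr_chain [Finite W] [Fintype Y] (hG : GG cs h T X = ⊤) {m : ℕ} (hm : 2 ≤ m) (k : Fin m ↪ I)
    (hk : ∀ i j, M (k i) (k j) = cA m i j) {q : ℕ} (i₀ : Fin m) (hq : Nat.card (X (sr (k i₀))) = q)
    {Z : Subgroup Y} (hZc : Z ≤ Subgroup.center Y) (hZT : Z ≤ T) (l : Z →* ℂˣ)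
    (hw : ∀ w, w ∉ WJ cs (Set.range k) → Perm cs h (Set.range k) w → ∀ i, rep cs h w (sr (k i)) = sr (k i.rev)) :
    ∃ χ : Y → ℂ, IsIrrCharacter Y χ ∧ (∃ c : ℕ, 0 < c ∧ χ 1 = (PJ cs h T X (Set.range k)).index *
        (c * ((∏ i ∈ Finset.range m, (q ^ (i + 1) - 1) : ℕ) : ℂ))) ∧
      ∀ z (hz : z ∈ Z), χ z = χ 1 * (l ⟨z, hz⟩ : ℂˣ) := by
  obtain ⟨θ, h1, h2, h3⟩ := exists_chain_over R hm k hk i₀ hq hZc l
  rw [← h2]
  refine exists_irr_MJ R hG _ hZc hZT l h1.irr h1.cen h1.van ?_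
  intro w g hg hwJ hp
  exact h3 w g hg hp (hw w hwJ hp)

end final

end Cfsg.Agent.H491.RIM
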